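import Groth.Agent.ResProp.EF.K743.Trans
import Mathlib.RingTheory.Flat.Basic
import Mathlib.RingTheory.TensorProduct.Maps

/-!
# The invariant functions on the frame ring are invariant (`StmtThetaInv`, `StmtFrameInv`)
-/

set_option autoImplicit false

universe u

open Groth.Agent.Grpsch.AffGrpd Groth.Agent.ResProp.EF.K743 TensorProduct

namespace Groth.Agent.ResProp.EF.K6.FrameInv

/-! ### groupoids -/

section grpd

variable {A Γ : Type u} [CommRing A] [CommRing Γ] (G : RGrpd A Γ) {T : Type u} [CommRing T]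

theorem comp_congr {α α' β β' : Γ →+* T} (h : α.comp G.s = β.comp G.t) (h' : α'.comp G.s = β'.comp G.t)
    (hα : α = α') (hβ : β = β') : G.comp α β h = G.comp α' β' h' := by
  subst hα; subst hβ; rfl

theorem inv_s (α : Γ →+* T) : (α.comp G.i).comp G.s = α.comp G.t := by
  rw [RingHom.comp_assoc, G.i_s]

theorem inv_t (α : Γ →+* T) : (α.comp G.i).comp G.t = α.comp G.s := by
  rw [RingHom.comp_assoc, G.i_t]

theorem comp_comp_inv (α β : Γ →+* T) (h : α.comp G.s = β.comp G.t)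
    (h' : (G.comp α β h).comp G.s = (β.comp G.i).comp G.t) :
    G.comp (G.comp α β h) (β.comp G.i) h' = α := by
  rw [G.assoc α β (β.comp G.i) h (inv_t G β).symm]
  refine (comp_congr G _ ?_ rfl ((G.comp_i β).trans ?_)).trans (G.comp_e α)
  · rw [RingHom.comp_assoc, G.e_t, RingHom.comp_id]
  · rw [h]

theorem inv_comp_comp (α β : Γ →+* T) (h : α.comp G.s = β.comp G.t)
    (h' : (α.comp G.i).comp G.s = (G.comp α β h).comp G.t) :
    G.comp (α.comp G.i) (G.comp α β h) h' = β := by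
  rw [← G.assoc (α.comp G.i) α β (inv_s G α) h]
  refine (comp_congr G _ ?_ ((G.i_comp α).trans ?_) rfl).trans (G.e_comp β)
  · rw [RingHom.comp_assoc, G.e_s, RingHom.comp_id]
  · rw [h]

theorem inv_inv (α : Γ →+* T) : (α.comp G.i).comp G.i = α := by
  have h1 := comp_comp_inv G ((α.comp G.i).comp G.i) (α.comp G.i) (inv_s G _)
    ((G.comp_s _ _ _).trans (inv_t G (α.comp G.i)).symm)
  have h2 := comp_comp_inv G α (α.comp G.i) (inv_t G α).symm
    ((G.comp_s _ _ _).trans (inv_t G (α.comp G.i)).symm)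
  rw [← h1]
  refine Eq.trans (comp_congr G _ _ ?_ rfl) h2
  rw [G.i_comp, G.comp_i, inv_s]

/-- `comp γ δ = id` determines `γ` -/
theorem eq_inv_of_comp (γ δ : Γ →+* T) (h : γ.comp G.s = δ.comp G.t)
    (h' : G.comp γ δ h = (δ.comp G.s).comp G.e) : γ = δ.comp G.i := by
  have h1 := comp_comp_inv G γ δ h ((G.comp_s _ _ _).trans (inv_t G δ).symm)
  have h2 := comp_comp_inv G (δ.comp G.i) δ (inv_s G δ) ((G.comp_s _ _ _).trans (inv_t G δ).symm)
  rw [← h1]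
  refine Eq.trans (comp_congr G _ _ ?_ rfl) h2
  rw [h', G.i_comp]

theorem comp_inv (α β : Γ →+* T) (h : α.comp G.s = β.comp G.t)
    (h' : (β.comp G.i).comp G.s = (α.comp G.i).comp G.t) :
    (G.comp α β h).comp G.i = G.comp (β.comp G.i) (α.comp G.i) h' := by
  refine (eq_inv_of_comp G _ _ ?_ ?_).symm
  · rw [G.comp_s, G.comp_t, inv_s]
  · rw [G.assoc (β.comp G.i) (α.comp G.i) (G.comp α β h) h' (by rw [G.comp_t, inv_s])]
    rw [G.comp_s]
    refine Eq.trans (comp_congr G _ (inv_s G β) rfl (inv_comp_comp G α β h _)) (G.i_comp β)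

/-- `(h γ⁻¹) (σ)⁻¹ = h (σ γ)⁻¹` -/
theorem comp_inv_assoc (h γ σ : Γ →+* T) (e' : σ.comp G.s = γ.comp G.t)
    (e₁ : h.comp G.s = (γ.comp G.i).comp G.t)
    (e₂ : (G.comp h (γ.comp G.i) e₁).comp G.s = (σ.comp G.i).comp G.t)
    (e₃ : h.comp G.s = ((G.comp σ γ e').comp G.i).comp G.t) :
    G.comp (G.comp h (γ.comp G.i) e₁) (σ.comp G.i) e₂ = G.comp h ((G.comp σ γ e').comp G.i) e₃ := by
  have e₄ : (γ.comp G.i).comp G.s = (σ.comp G.i).comp G.t := by rw [inv_s, inv_t, e']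
  rw [G.assoc h (γ.comp G.i) (σ.comp G.i) e₁ e₄]
  exact comp_congr G _ _ rfl (comp_inv G σ γ e' e₄).symm

/-- `(h₁ γ⁻¹) (h₂ γ⁻¹)⁻¹ = h₁ h₂⁻¹` -/
theorem comp_inv_cancel (h₁ h₂ γ : Γ →+* T) (e₁ : h₁.comp G.s = (γ.comp G.i).comp G.t)
    (e₂ : h₂.comp G.s = (γ.comp G.i).comp G.t)
    (e₃ : (G.comp h₁ (γ.comp G.i) e₁).comp G.s = ((G.comp h₂ (γ.comp G.i) e₂).comp G.i).comp G.t)
    (e₄ : h₁.comp G.s = (h₂.comp G.i).comp G.t) :
    G.comp (G.comp h₁ (γ.comp G.i) e₁) ((G.comp h₂ (γ.comp G.i) e₂).comp G.i) e₃ =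
      G.comp h₁ (h₂.comp G.i) e₄ := by
  have e₅ : ((γ.comp G.i).comp G.i).comp G.s = (h₂.comp G.i).comp G.t := by
    rw [inv_s G (γ.comp G.i), inv_t G h₂, e₂]
  have e₆ : (γ.comp G.i).comp G.s = (G.comp ((γ.comp G.i).comp G.i) (h₂.comp G.i) e₅).comp G.t := by
    rw [G.comp_t, inv_s, inv_t, inv_s]
  have e₇ : (γ.comp G.i).comp G.s = ((G.comp h₂ (γ.comp G.i) e₂).comp G.i).comp G.t := by
    rw [inv_t, G.comp_s]
  rw [G.assoc h₁ (γ.comp G.i) _ e₁ e₇]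
  refine comp_congr G _ _ rfl ?_
  refine (comp_congr G e₇ e₆ rfl (comp_inv G h₂ (γ.comp G.i) e₂ e₅)).trans ?_
  have e₈ : (γ.comp G.i).comp G.s = ((γ.comp G.i).comp G.i).comp G.t := (inv_t G (γ.comp G.i)).symm
  rw [← G.assoc (γ.comp G.i) ((γ.comp G.i).comp G.i) (h₂.comp G.i) e₈ e₅]
  refine Eq.trans (comp_congr G _ ?_ ((G.comp_i (γ.comp G.i)).trans ?_) rfl) (G.e_comp (h₂.comp G.i))
  · rw [RingHom.comp_assoc, G.e_s, RingHom.comp_id]
  · rw [inv_t G h₂, e₂]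

end grpd

theorem quad {T : Type*} [CommRing T] {ι₁ ι₂ ι₃ ι₄ : Type*} [Fintype ι₁] [Fintype ι₂] [Fintype ι₃] [Fintype ι₄]
    (B : ι₁ → T) (C : ι₂ → T) (g : ι₃ → ι₄ → T) (q : ι₃ → ι₁ → T) (r : ι₄ → ι₂ → T) :
    ∑ b, ∑ c, B b * C c * ∑ J, ∑ K, g J K * q J b * r K c =
      ∑ J, ∑ K, g J K * (∑ b, B b * q J b) * (∑ c, C c * r K c) := by
  have h : ∀ J K, g J K * (∑ b, B b * q J b) * (∑ c, C c * r K c) =
      ∑ b, ∑ c, B b * C c * (g J K * q J b * r K c) := fun J K => by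
    rw [mul_assoc, Finset.sum_mul_sum, Finset.mul_sum]
    refine Finset.sum_congr rfl fun b _ => ?_
    rw [Finset.mul_sum]
    refine Finset.sum_congr rfl fun c _ => ?_
    ring
  simp only [h]
  have h' : ∀ b c, B b * C c * ∑ J, ∑ K, g J K * q J b * r K c =
      ∑ J, ∑ K, B b * C c * (g J K * q J b * r K c) := fun b c => by
    simp only [Finset.mul_sum]
  simp only [h']
  exact (Finset.sum_congr rfl fun b _ => Finset.sum_comm).trans (Finset.sum_comm.trans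
    (Finset.sum_congr rfl fun J _ => (Finset.sum_congr rfl fun b _ => Finset.sum_comm).trans Finset.sum_comm))

section pts

variable {A Γ : Type u} [CommRing A] [CommRing Γ] {G : RGrpd A Γ} {X : Gens G} {m : ℕ} {K : Type u} [Field K]
  {x : A →+* K} (P : PtData G X m x)

variable {T : Type u} [CommRing T]

/-- coordinates of `h ↦ x_j (h γ⁻¹)` -/
noncomputable def q₁ (y : K →+* T) (γ : Γ →+* T) (j : Fin X.n) (a : Fin P.r₁) : T :=
  ∑ k, γ (G.i (X.c k j)) * y (P.V₁ k a)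

/-- coordinates of `h ↦ x^J (h γ⁻¹)` -/
noncomputable def q₂ (y : K →+* T) (γ : Γ →+* T) (J : Fin m → Fin X.n) (b : Fin P.r₂) : T :=
  ∑ κ : Fin m → Fin P.r₁, (∏ i, q₁ P y γ (J i) (κ i)) * y (P.μ₀ κ b)

variable {T' : Type u} [CommRing T']

theorem map_q₁ (f : T →+* T') (y : K →+* T) (γ : Γ →+* T) (j : Fin X.n) (a : Fin P.r₁) :
    f (q₁ P y γ j a) = q₁ P (f.comp y) (f.comp γ) j a := by
  simp only [q₁, map_sum, map_mul, RingHom.comp_apply]

theorem map_q₂ (f : T →+* T') (y : K →+* T) (γ : Γ →+* T) (J : Fin m → Fin X.n) (b : Fin P.r₂) :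
    f (q₂ P y γ J b) = q₂ P (f.comp y) (f.comp γ) J b := by
  simp only [q₂, map_sum, map_mul, map_prod, map_q₁, RingHom.comp_apply]

theorem test_q₁ (y : K →+* T) (γ h : Γ →+* T) (e : h.comp G.s = y.comp x)
    (e' : h.comp G.s = (γ.comp G.i).comp G.t) (j : Fin X.n) :
    ∑ a, P.w₁ y h e a * q₁ P y γ j a = G.comp h (γ.comp G.i) e' (X.x j) := by
  rw [X.hc]
  simp only [q₁, Finset.mul_sum]
  rw [Finset.sum_comm]
  refine Finset.sum_congr rfl fun k _ => ?_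
  rw [P.hw₁ y h e k, Finset.sum_mul]
  refine Finset.sum_congr rfl fun a _ => ?_
  rw [RingHom.comp_apply]
  ring

theorem test_q₂ (y : K →+* T) (γ h : Γ →+* T) (e : h.comp G.s = y.comp x)
    (e' : h.comp G.s = (γ.comp G.i).comp G.t) (J : Fin m → Fin X.n) :
    ∑ b, P.w₂ y h e b * q₂ P y γ J b = G.comp h (γ.comp G.i) e' (X.mon J) := by
  have h1 : G.comp h (γ.comp G.i) e' (X.mon J) = ∏ i, ∑ a, P.w₁ y h e a * q₁ P y γ (J i) a := by
    rw [Gens.mon, map_prod]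
    exact Finset.prod_congr rfl fun i _ => (test_q₁ P y γ h e e' (J i)).symm
  rw [h1, Finset.prod_univ_sum, Fintype.piFinset_univ]
  simp only [q₂, Finset.mul_sum]
  rw [Finset.sum_comm]
  refine Finset.sum_congr rfl fun κ _ => ?_
  rw [Finset.prod_mul_distrib, P.hμ y h e κ, Finset.sum_mul]
  refine Finset.sum_congr rfl fun b _ => ?_
  ring

/-- naturality of the basis -/
theorem map_w₂ (f : T →+* T') (y : K →+* T) (h : Γ →+* T) (e : h.comp G.s = y.comp x)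
    (e' : (f.comp h).comp G.s = (f.comp y).comp x) (b : Fin P.r₂) :
    f (P.w₂ y h e b) = P.w₂ (f.comp y) (f.comp h) e' b := by
  obtain ⟨I, hI⟩ := P.span₂
  set M : Matrix (Fin P.r₂) (Fin P.r₂) K := Matrix.of fun i b =>
    ∑ κ : Fin m → Fin P.r₁, (∏ k, P.V₁ (I i k) (κ k)) * P.μ₀ κ b with hM
  have hdet : IsUnit (M.map (f.comp y)).det := by
    have : (M.map (f.comp y)).det = (f.comp y) M.det := (RingHom.map_det (f.comp y) M).symm
    rw [this]
    exact (isUnit_iff_ne_zero.2 hI).map _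
  have key : (M.map (f.comp y)).mulVec (fun b => f (P.w₂ y h e b)) =
      (M.map (f.comp y)).mulVec (fun b => P.w₂ (f.comp y) (f.comp h) e' b) := by
    funext i
    have h1 := congrArg f (P.hw₂ y h e (I i))
    have h2 := P.hw₂ (f.comp y) (f.comp h) e' (I i)
    simp only [Matrix.mulVec, dotProduct, Matrix.map_apply, hM, Matrix.of_apply]
    rw [map_sum] at h1
    rw [RingHom.comp_apply, h1] at h2
    simpa only [map_mul, RingHom.comp_apply, mul_comm] using h2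
  have := Matrix.mulVec_injective_of_isUnit ((Matrix.isUnit_iff_isUnit_det _).2 hdet) key
  exact congrFun this b

/-- one-variable test -/
theorem ext₁ (y : K →+* T) (d d' : Fin P.r₁ → T)
    (H : ∀ {T' : Type u} [CommRing T'] (f : T →+* T') (h : Γ →+* T') (e : h.comp G.s = (f.comp y).comp x),
      ∑ a, P.w₁ (f.comp y) h e a * f (d a) = ∑ a, P.w₁ (f.comp y) h e a * f (d' a)) : d = d' := by
  refine sub_eq_zero.1 (P.inj₁ y (d - d') fun f h e => ?_)
  simp only [Pi.sub_apply, map_sub, mul_sub, Finset.sum_sub_distrib]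
  rw [sub_eq_zero]
  exact H f h e

theorem ext₂ (y : K →+* T) (d d' : Fin P.r₂ → T)
    (H : ∀ {T' : Type u} [CommRing T'] (f : T →+* T') (h : Γ →+* T') (e : h.comp G.s = (f.comp y).comp x),
      ∑ b, P.w₂ (f.comp y) h e b * f (d b) = ∑ b, P.w₂ (f.comp y) h e b * f (d' b)) : d = d' := by
  refine sub_eq_zero.1 (P.inj₂ y (d - d') fun f h e => ?_)
  simp only [Pi.sub_apply, map_sub, mul_sub, Finset.sum_sub_distrib]
  rw [sub_eq_zero]
  exact H f h e

/-- two-variable test `w₂ ⊗ w₂` -/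
theorem ext₂₂ (y : K →+* T) (d d' : Fin P.r₂ → Fin P.r₂ → T)
    (H : ∀ {T' : Type u} [CommRing T'] (f : T →+* T') (h₁ h₂ : Γ →+* T') (e₁ : h₁.comp G.s = (f.comp y).comp x)
      (e₂ : h₂.comp G.s = (f.comp y).comp x),
      ∑ b, ∑ c, P.w₂ (f.comp y) h₁ e₁ b * P.w₂ (f.comp y) h₂ e₂ c * f (d b c) =
        ∑ b, ∑ c, P.w₂ (f.comp y) h₁ e₁ b * P.w₂ (f.comp y) h₂ e₂ c * f (d' b c)) : d = d' := by
  funext b c
  refine congrFun (f := fun b => d b c) (g := fun b => d' b c) (ext₂ P y _ _ fun {T'} _ f h e => ?_) b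
  refine congrFun (f := fun c => ∑ b, P.w₂ (f.comp y) h e b * f (d b c))
    (g := fun c => ∑ b, P.w₂ (f.comp y) h e b * f (d' b c)) (ext₂ P (f.comp y) _ _ fun {T''} _ f' h' e' => ?_) c
  have e₁ : (f'.comp h).comp G.s = ((f'.comp f).comp y).comp x := by
    rw [RingHom.comp_assoc, e]; rfl
  have key : ∀ d : Fin P.r₂ → Fin P.r₂ → T,
      ∑ c, P.w₂ (f'.comp (f.comp y)) h' e' c * f' (∑ b, P.w₂ (f.comp y) h e b * f (d b c)) =
      ∑ b, ∑ c, P.w₂ ((f'.comp f).comp y) (f'.comp h) e₁ b * P.w₂ ((f'.comp f).comp y) h' e' c * (f'.comp f) (d b c) := by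
    intro d
    rw [Finset.sum_comm]
    refine Finset.sum_congr rfl fun c _ => ?_
    rw [map_sum, Finset.mul_sum]
    refine Finset.sum_congr rfl fun b _ => ?_
    rw [map_mul, map_w₂ P f' (f.comp y) h e e₁ b]
    change _ = P.w₂ (f'.comp (f.comp y)) (f'.comp h) e₁ b * P.w₂ (f'.comp (f.comp y)) h' e' c * f' (f (d b c))
    ring
  rw [key, key]
  exact H (f'.comp f) (f'.comp h) h' e₁ e'

/-- two-variable test `w₁ ⊗ w₂` -/
theorem ext₁₂ (y : K →+* T) (d d' : Fin P.r₁ → Fin P.r₂ → T)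
    (H : ∀ {T' : Type u} [CommRing T'] (f : T →+* T') (h₁ h₂ : Γ →+* T') (e₁ : h₁.comp G.s = (f.comp y).comp x)
      (e₂ : h₂.comp G.s = (f.comp y).comp x),
      ∑ a, ∑ b, P.w₁ (f.comp y) h₁ e₁ a * P.w₂ (f.comp y) h₂ e₂ b * f (d a b) =
        ∑ a, ∑ b, P.w₁ (f.comp y) h₁ e₁ a * P.w₂ (f.comp y) h₂ e₂ b * f (d' a b)) : d = d' := by
  funext a b
  refine congrFun (f := d a) (g := d' a) ?_ b
  refine ext₂ P y _ _ fun {T'} _ f h e => ?_
  refine congrFun (f := fun a => ∑ b, P.w₂ (f.comp y) h e b * f (d a b))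
    (g := fun a => ∑ b, P.w₂ (f.comp y) h e b * f (d' a b)) (ext₁ P (f.comp y) _ _ fun {T''} _ f' h' e' => ?_) a
  have e₁ : (f'.comp h).comp G.s = ((f'.comp f).comp y).comp x := by
    rw [RingHom.comp_assoc, e]; rfl
  have key : ∀ d : Fin P.r₁ → Fin P.r₂ → T,
      ∑ a, P.w₁ (f'.comp (f.comp y)) h' e' a * f' (∑ b, P.w₂ (f.comp y) h e b * f (d a b)) =
      ∑ a, ∑ b, P.w₁ ((f'.comp f).comp y) h' e' a * P.w₂ ((f'.comp f).comp y) (f'.comp h) e₁ b * (f'.comp f) (d a b) := by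
    intro d
    refine Finset.sum_congr rfl fun a _ => ?_
    rw [map_sum, Finset.mul_sum]
    refine Finset.sum_congr rfl fun b _ => ?_
    rw [map_mul, map_w₂ P f' (f.comp y) h e e₁ b]
    change _ = P.w₁ (f'.comp (f.comp y)) h' e' a * P.w₂ (f'.comp (f.comp y)) (f'.comp h) e₁ b * f' (f (d a b))
    ring
  rw [key, key]
  exact H (f'.comp f) h' (f'.comp h) e' e₁

/-! ### the formulas do not depend on `γ` -/

theorem src_aux {y : K →+* T} {γ h : Γ →+* T} (hγ : γ.comp G.s = y.comp x) (e : h.comp G.s = y.comp x) :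
    h.comp G.s = (γ.comp G.i).comp G.t := by
  rw [inv_t, hγ, e]

theorem src_map {y : K →+* T} {γ : Γ →+* T} (hγ : γ.comp G.s = y.comp x) (f : T →+* T') :
    (f.comp γ).comp G.s = (f.comp y).comp x := by
  rw [RingHom.comp_assoc, hγ]; rfl

theorem one_indep (y : K →+* T) (γ γ' : Γ →+* T) (hγ : γ.comp G.s = y.comp x) (hγ' : γ'.comp G.s = y.comp x) :
    q₁ P y γ X.j0 = q₁ P y γ' X.j0 := by
  refine ext₁ P y _ _ fun {T'} _ f h e => ?_
  simp only [map_q₁]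
  rw [test_q₁ P (f.comp y) (f.comp γ) h e (src_aux (src_map hγ f) e),
    test_q₁ P (f.comp y) (f.comp γ') h e (src_aux (src_map hγ' f) e), X.hx0, map_one, map_one]

/-- the composition formula -/
theorem comp_q₁ (y : K →+* T) (γ σ : Γ →+* T) (hγ : γ.comp G.s = y.comp x) (e : σ.comp G.s = γ.comp G.t)
    (j : Fin X.n) (a : Fin P.r₁) :
    ∑ k, σ (G.i (X.c k j)) * q₁ P y γ k a = q₁ P y (G.comp σ γ e) j a := by
  have hγ' : (G.comp σ γ e).comp G.s = y.comp x := by rw [G.comp_s, hγ]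
  refine congrFun (f := fun a => ∑ k, σ (G.i (X.c k j)) * q₁ P y γ k a) (g := fun a => q₁ P y (G.comp σ γ e) j a)
    (ext₁ P y _ _ fun {T'} _ f h e' => ?_) a
  simp only [map_sum, map_mul, map_q₁]
  rw [test_q₁ P (f.comp y) (f.comp (G.comp σ γ e)) h e' (src_aux (src_map hγ' f) e')]
  have e₁ : (f.comp σ).comp G.s = (f.comp γ).comp G.t := by
    rw [RingHom.comp_assoc, e]; rfl
  have e₂ : h.comp G.s = ((f.comp γ).comp G.i).comp G.t := src_aux (src_map hγ f) e'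
  have e₃ : (G.comp h ((f.comp γ).comp G.i) e₂).comp G.s = ((f.comp σ).comp G.i).comp G.t := by
    rw [G.comp_s, inv_s, inv_t, e₁]
  have e₄ : h.comp G.s = ((G.comp (f.comp σ) (f.comp γ) e₁).comp G.i).comp G.t := by
    rw [inv_t, G.comp_s, src_map hγ f, e']
  have h1 := X.hc (G.comp h ((f.comp γ).comp G.i) e₂) ((f.comp σ).comp G.i) e₃ j
  rw [comp_inv_assoc G h (f.comp γ) (f.comp σ) e₁ e₂ e₃ e₄] at h1
  have h2 : G.comp h ((f.comp (G.comp σ γ e)).comp G.i) (src_aux (src_map hγ' f) e') =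
      G.comp h ((G.comp (f.comp σ) (f.comp γ) e₁).comp G.i) e₄ := by
    refine comp_congr G _ _ rfl ?_
    rw [G.comp_nat]
  rw [h2, h1]
  simp only [Finset.mul_sum]
  rw [Finset.sum_comm]
  refine Finset.sum_congr rfl fun k _ => ?_
  rw [← test_q₁ P (f.comp y) (f.comp γ) h e' e₂, Finset.sum_mul]
  refine Finset.sum_congr rfl fun a _ => ?_
  simp only [RingHom.comp_apply]
  ring

theorem test_al (u : A) (al : (Fin m → Fin X.n) → A) (hal : G.t u = ∑ J, G.s (al J) * X.mon J)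
    (y : K →+* T) (γ h : Γ →+* T) (e : h.comp G.s = y.comp x) (e' : h.comp G.s = (γ.comp G.i).comp G.t) :
    ∑ b, P.w₂ y h e b * ∑ J, γ (G.t (al J)) * q₂ P y γ J b = h (G.t u) := by
  have hs : ∀ a : A, γ (G.t a) = G.comp h (γ.comp G.i) e' (G.s a) := fun a => by
    have := RingHom.congr_fun (G.comp_s h (γ.comp G.i) e') a
    rw [inv_s] at this
    exact this.symm
  have ht : h (G.t u) = G.comp h (γ.comp G.i) e' (G.t u) := by
    have := RingHom.congr_fun (G.comp_t h (γ.comp G.i) e') u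
    exact this.symm
  rw [ht, hal, map_sum]
  simp only [Finset.mul_sum]
  rw [Finset.sum_comm]
  refine Finset.sum_congr rfl fun J _ => ?_
  rw [map_mul, ← test_q₂ P y γ h e e', ← hs, Finset.mul_sum]
  refine Finset.sum_congr rfl fun b _ => ?_
  ring

theorem al_indep (u : A) (al : (Fin m → Fin X.n) → A) (hal : G.t u = ∑ J, G.s (al J) * X.mon J)
    (y : K →+* T) (γ γ' : Γ →+* T) (hγ : γ.comp G.s = y.comp x) (hγ' : γ'.comp G.s = y.comp x) :
    (fun b => ∑ J, γ (G.t (al J)) * q₂ P y γ J b) = fun b => ∑ J, γ' (G.t (al J)) * q₂ P y γ' J b := by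
  refine ext₂ P y _ _ fun {T'} _ f h e => ?_
  have key : ∀ γ : Γ →+* T, γ.comp G.s = y.comp x →
      ∑ b, P.w₂ (f.comp y) h e b * f (∑ J, γ (G.t (al J)) * q₂ P y γ J b) = h (G.t u) := fun γ hγ => by
    rw [← test_al P u al hal (f.comp y) (f.comp γ) h e (src_aux (src_map hγ f) e)]
    simp only [map_sum, map_mul, map_q₂, RingHom.comp_apply]
  rw [key γ hγ, key γ' hγ']

theorem test_et (j : Fin X.n) (et : Fin X.n → (Fin m → Fin X.n) → A)
    (het : ∀ k, G.i (X.c k j) = ∑ J, G.s (et k J) * X.mon J)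
    (y : K →+* T) (γ h₁ h₂ : Γ →+* T) (e₁ : h₁.comp G.s = y.comp x) (e₂ : h₂.comp G.s = y.comp x)
    (e₁' : h₁.comp G.s = (γ.comp G.i).comp G.t) (e₂' : h₂.comp G.s = (γ.comp G.i).comp G.t)
    (e₃ : h₁.comp G.s = (h₂.comp G.i).comp G.t) :
    ∑ a, ∑ b, P.w₁ y h₁ e₁ a * P.w₂ y h₂ e₂ b * ∑ k, ∑ J, γ (G.t (et k J)) * q₁ P y γ k a * q₂ P y γ J b =
      G.comp h₁ (h₂.comp G.i) e₃ (X.x j) := by
  have hs : ∀ a : A, γ (G.t a) = G.comp h₂ (γ.comp G.i) e₂' (G.s a) := fun a => by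
    have := RingHom.congr_fun (G.comp_s h₂ (γ.comp G.i) e₂') a
    rw [inv_s] at this
    exact this.symm
  have e₄ : (G.comp h₁ (γ.comp G.i) e₁').comp G.s = ((G.comp h₂ (γ.comp G.i) e₂').comp G.i).comp G.t := by
    rw [inv_t, G.comp_s, G.comp_s]
  rw [← comp_inv_cancel G h₁ h₂ γ e₁' e₂' e₄ e₃, X.hc]
  rw [quad]
  refine Finset.sum_congr rfl fun k _ => ?_
  rw [RingHom.comp_apply, het, map_sum, Finset.mul_sum, test_q₁ P y γ h₁ e₁ e₁']
  refine Finset.sum_congr rfl fun J _ => ?_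
  rw [test_q₂ P y γ h₂ e₂ e₂', map_mul, hs]
  ring

theorem et_indep (j : Fin X.n) (et : Fin X.n → (Fin m → Fin X.n) → A)
    (het : ∀ k, G.i (X.c k j) = ∑ J, G.s (et k J) * X.mon J)
    (y : K →+* T) (γ γ' : Γ →+* T) (hγ : γ.comp G.s = y.comp x) (hγ' : γ'.comp G.s = y.comp x) :
    (fun a b => ∑ k, ∑ J, γ (G.t (et k J)) * q₁ P y γ k a * q₂ P y γ J b) =
      fun a b => ∑ k, ∑ J, γ' (G.t (et k J)) * q₁ P y γ' k a * q₂ P y γ' J b := by
  refine ext₁₂ P y _ _ fun {T'} _ f h₁ h₂ e₁ e₂ => ?_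
  have e₃ : h₁.comp G.s = (h₂.comp G.i).comp G.t := by rw [inv_t, e₁, e₂]
  have key : ∀ γ : Γ →+* T, γ.comp G.s = y.comp x →
      ∑ a, ∑ b, P.w₁ (f.comp y) h₁ e₁ a * P.w₂ (f.comp y) h₂ e₂ b *
        f (∑ k, ∑ J, γ (G.t (et k J)) * q₁ P y γ k a * q₂ P y γ J b) =
      G.comp h₁ (h₂.comp G.i) e₃ (X.x j) := fun γ hγ => by
    rw [← test_et P j et het (f.comp y) (f.comp γ) h₁ h₂ e₁ e₂ (src_aux (src_map hγ f) e₁)
      (src_aux (src_map hγ f) e₂) e₃]
    simp only [map_sum, map_mul, map_q₁, map_q₂, RingHom.comp_apply]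
  rw [key γ hγ, key γ' hγ']

theorem test_be (e₀ : Γ) (be : (Fin m → Fin X.n) → (Fin m → Fin X.n) → A)
    (hbe : ∀ {T : Type u} [CommRing T] (h₁ h₂ : Γ →+* T) (hs : h₂.comp G.s = (h₁.comp G.i).comp G.t),
      G.comp h₂ (h₁.comp G.i) hs e₀ = ∑ J, ∑ K, h₁ (G.s (be J K)) * h₁ (X.mon J) * h₂ (X.mon K))
    (y : K →+* T) (γ h₁ h₂ : Γ →+* T) (e₁ : h₁.comp G.s = y.comp x) (e₂ : h₂.comp G.s = y.comp x)
    (e₁' : h₁.comp G.s = (γ.comp G.i).comp G.t) (e₂' : h₂.comp G.s = (γ.comp G.i).comp G.t)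
    (e₃ : h₂.comp G.s = (h₁.comp G.i).comp G.t) :
    ∑ b, ∑ c, P.w₂ y h₁ e₁ b * P.w₂ y h₂ e₂ c * ∑ J, ∑ K, γ (G.t (be J K)) * q₂ P y γ J b * q₂ P y γ K c =
      G.comp h₂ (h₁.comp G.i) e₃ e₀ := by
  have hs : ∀ a : A, γ (G.t a) = G.comp h₁ (γ.comp G.i) e₁' (G.s a) := fun a => by
    have := RingHom.congr_fun (G.comp_s h₁ (γ.comp G.i) e₁') a
    rw [inv_s] at this
    exact this.symm
  have e₄ : (G.comp h₂ (γ.comp G.i) e₂').comp G.s = ((G.comp h₁ (γ.comp G.i) e₁').comp G.i).comp G.t := by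
    rw [inv_t, G.comp_s, G.comp_s]
  rw [← comp_inv_cancel G h₂ h₁ γ e₂' e₁' e₄ e₃, hbe]
  rw [quad]
  refine Finset.sum_congr rfl fun J _ => Finset.sum_congr rfl fun L _ => ?_
  rw [test_q₂ P y γ h₁ e₁ e₁', test_q₂ P y γ h₂ e₂ e₂', hs]

theorem be_indep (e₀ : Γ) (be : (Fin m → Fin X.n) → (Fin m → Fin X.n) → A)
    (hbe : ∀ {T : Type u} [CommRing T] (h₁ h₂ : Γ →+* T) (hs : h₂.comp G.s = (h₁.comp G.i).comp G.t),
      G.comp h₂ (h₁.comp G.i) hs e₀ = ∑ J, ∑ K, h₁ (G.s (be J K)) * h₁ (X.mon J) * h₂ (X.mon K))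
    (y : K →+* T) (γ γ' : Γ →+* T) (hγ : γ.comp G.s = y.comp x) (hγ' : γ'.comp G.s = y.comp x) :
    (fun b c => ∑ J, ∑ K, γ (G.t (be J K)) * q₂ P y γ J b * q₂ P y γ K c) =
      fun b c => ∑ J, ∑ K, γ' (G.t (be J K)) * q₂ P y γ' J b * q₂ P y γ' K c := by
  refine ext₂₂ P y _ _ fun {T'} _ f h₁ h₂ e₁ e₂ => ?_
  have e₃ : h₂.comp G.s = (h₁.comp G.i).comp G.t := by rw [inv_t, e₁, e₂]
  have key : ∀ γ : Γ →+* T, γ.comp G.s = y.comp x →
      ∑ b, ∑ c, P.w₂ (f.comp y) h₁ e₁ b * P.w₂ (f.comp y) h₂ e₂ c *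
        f (∑ J, ∑ K, γ (G.t (be J K)) * q₂ P y γ J b * q₂ P y γ K c) =
      G.comp h₂ (h₁.comp G.i) e₃ e₀ := fun γ hγ => by
    rw [← test_be P e₀ be hbe (f.comp y) (f.comp γ) h₁ h₂ e₁ e₂ (src_aux (src_map hγ f) e₁)
      (src_aux (src_map hγ f) e₂) e₃]
    simp only [map_sum, map_mul, map_q₂, RingHom.comp_apply]
  rw [key γ hγ, key γ' hγ']

end pts

section L

variable {A Γ : Type u} [CommRing A] [CommRing Γ] {G : RGrpd A Γ} {X : Gens G} {m : ℕ} {K : Type u} [Field K]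
  {x : A →+* K} (P : PtData G X m x) (R : LRing G x P.r₁ P.r₂)

theorem Q₁L_eq (j : Fin X.n) (a : Fin P.r₁) :
    LRing.Q₁L P R j a = ∑ a', R.l₁.1 a a' * q₁ P R.y R.γ j a' := by
  simp only [LRing.Q₁L, q₁, Finset.mul_sum]
  rw [Finset.sum_comm]
  refine Finset.sum_congr rfl fun a' _ => Finset.sum_congr rfl fun k _ => ?_
  ring

/-- the matrix lemma -/
theorem mat_aux {T : Type*} [CommRing T] {r₁ r₂ n : ℕ} (l l' : Fin r₁ → Fin r₁ → T)
    (hl : ∀ (v : Fin r₁ → T) (i : Fin r₁), ∑ k, l' i k * ∑ a, l k a * v a = v i) (l₂ : Fin r₂ → Fin r₂ → T)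
    (μ : (Fin n → Fin r₁) → Fin r₂ → T) (v : Fin n → Fin r₁ → T) (b : Fin r₂) :
    ∑ κ : Fin n → Fin r₁, (∏ i, ∑ a', l (κ i) a' * v i a') *
      (∑ b', ∑ κ' : Fin n → Fin r₁, l₂ b b' * μ κ' b' * ∏ i, l' (κ' i) (κ i)) =
    ∑ b', l₂ b b' * ∑ κ' : Fin n → Fin r₁, (∏ i, v i (κ' i)) * μ κ' b' := by
  have h1 : ∀ κ' : Fin n → Fin r₁, ∑ κ : Fin n → Fin r₁, ∏ i, (l' (κ' i) (κ i) * ∑ a', l (κ i) a' * v i a') =
      ∏ i, v i (κ' i) := fun κ' => by
    rw [← Finset.prod_congr rfl fun i _ => hl (v i) (κ' i), Finset.prod_univ_sum, Fintype.piFinset_univ]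
  have h2 : ∀ κ : Fin n → Fin r₁, (∏ i, ∑ a', l (κ i) a' * v i a') *
      (∑ b', ∑ κ' : Fin n → Fin r₁, l₂ b b' * μ κ' b' * ∏ i, l' (κ' i) (κ i)) =
      ∑ b', ∑ κ' : Fin n → Fin r₁, l₂ b b' * (μ κ' b' * ∏ i, (l' (κ' i) (κ i) * ∑ a', l (κ i) a' * v i a')) :=
    fun κ => by
      rw [Finset.mul_sum]
      refine Finset.sum_congr rfl fun b' _ => ?_
      rw [Finset.mul_sum]
      refine Finset.sum_congr rfl fun κ' _ => ?_
      rw [Finset.prod_mul_distrib]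
      ring
  simp only [h2]
  rw [Finset.sum_comm]
  refine Finset.sum_congr rfl fun b' _ => ?_
  rw [Finset.sum_comm, Finset.mul_sum]
  refine Finset.sum_congr rfl fun κ' _ => ?_
  rw [← h1 κ', ← Finset.mul_sum, ← Finset.mul_sum]
  ring

theorem l₁_cancel (v : Fin P.r₁ → R.L) (i : Fin P.r₁) :
    ∑ k, (R.l₁⁻¹).1 i k * ∑ a, R.l₁.1 k a * v a = v i := by
  have h3 : ((R.l₁⁻¹).1 * R.l₁.1) = 1 := by
    rw [← Units.val_mul, inv_mul_cancel, Units.val_one]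
  have h4 : ((R.l₁⁻¹).1.mulVec (R.l₁.1.mulVec v)) i = v i := by
    rw [Matrix.mulVec_mulVec, h3, Matrix.one_mulVec]
  exact h4

theorem Q₂L_eq (J : Fin m → Fin X.n) (b : Fin P.r₂) :
    ∑ κ : Fin m → Fin P.r₁, (∏ i, LRing.Q₁L P R (J i) (κ i)) * LRing.μL P R κ b =
      ∑ b', R.l₂.1 b b' * q₂ P R.y R.γ J b' := by
  simp only [Q₁L_eq, LRing.μL]
  exact mat_aux (fun i j => R.l₁.1 i j) (fun i j => (R.l₁⁻¹).1 i j) (l₁_cancel P R) (fun i j => R.l₂.1 i j)
    (fun κ b => R.y (P.μ₀ κ b)) (fun i a => q₁ P R.y R.γ (J i) a) b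

/-- elements of `L` which do not depend on `γ` -/
def Inv (z : R.L) : Prop := ∀ (T : Type u) [CommRing T] (ψ ψ' : R.L →+* T), ψ.comp R.y = ψ'.comp R.y →
  (∀ i j, ψ (R.l₁.1 i j) = ψ' (R.l₁.1 i j)) → (∀ i j, ψ (R.l₂.1 i j) = ψ' (R.l₂.1 i j)) → ψ z = ψ' z

theorem inv_congr {z z' : R.L} (h : z = z') (hz : Inv P R z') : Inv P R z := by
  subst h; exact hz

theorem src_ψ {T : Type u} [CommRing T] (ψ : R.L →+* T) : (ψ.comp R.γ).comp G.s = (ψ.comp R.y).comp x := by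
  rw [RingHom.comp_assoc, R.hγ]; rfl

theorem map_l₁_inv {T : Type u} [CommRing T] (ψ ψ' : R.L →+* T)
    (h : ∀ i j, ψ (R.l₁.1 i j) = ψ' (R.l₁.1 i j)) (i j : Fin P.r₁) : ψ ((R.l₁⁻¹).1 i j) = ψ' ((R.l₁⁻¹).1 i j) := by
  have h1 : Matrix.GeneralLinearGroup.map ψ R.l₁ = Matrix.GeneralLinearGroup.map ψ' R.l₁ := by
    apply Units.ext
    ext i j
    exact h i j
  have h2 : Matrix.GeneralLinearGroup.map ψ R.l₁⁻¹ = Matrix.GeneralLinearGroup.map ψ' R.l₁⁻¹ := by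
    rw [map_inv, map_inv, h1]
  have h3 : (Matrix.GeneralLinearGroup.map ψ R.l₁⁻¹).1 i j = (Matrix.GeneralLinearGroup.map ψ' R.l₁⁻¹).1 i j := by
    rw [h2]
  exact h3

theorem inv_μ (κ : Fin m → Fin P.r₁) (b : Fin P.r₂) : Inv P R (LRing.μL P R κ b) := by
  intro T _ ψ ψ' hy h₁ h₂
  simp only [LRing.μL, map_sum, map_mul, map_prod, h₂, map_l₁_inv P R ψ ψ' h₁]
  have : ∀ c, ψ (R.y c) = ψ' (R.y c) := fun c => RingHom.congr_fun hy c
  simp only [this]

theorem inv_one (a : Fin P.r₁) : Inv P R (LRing.Q₁L P R X.j0 a) := by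
  intro T _ ψ ψ' hy h₁ h₂
  rw [Q₁L_eq]
  simp only [map_sum, map_mul, map_q₁, h₁, hy]
  have h := one_indep P (ψ'.comp R.y) (ψ.comp R.γ) (ψ'.comp R.γ) (hy ▸ src_ψ P R ψ) (src_ψ P R ψ')
  rw [h]

theorem inv_al (w : A) (al : (Fin m → Fin X.n) → A) (hal : G.t w = ∑ J, G.s (al J) * X.mon J) (b : Fin P.r₂) :
    Inv P R (∑ J, R.γ (G.t (al J)) *
      ∑ κ : Fin m → Fin P.r₁, (∏ i, LRing.Q₁L P R (J i) (κ i)) * LRing.μL P R κ b) := by
  have h0 : (∑ J, R.γ (G.t (al J)) *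
      ∑ κ : Fin m → Fin P.r₁, (∏ i, LRing.Q₁L P R (J i) (κ i)) * LRing.μL P R κ b) =
      ∑ b', R.l₂.1 b b' * ∑ J, R.γ (G.t (al J)) * q₂ P R.y R.γ J b' := by
    simp only [Q₂L_eq, Finset.mul_sum]
    rw [Finset.sum_comm]
    refine Finset.sum_congr rfl fun b' _ => Finset.sum_congr rfl fun J _ => ?_
    ring
  refine inv_congr P R h0 ?_
  intro T _ ψ ψ' hy h₁ h₂
  simp only [map_sum, map_mul, map_q₂, h₂, hy]
  have h := al_indep P w al hal (ψ'.comp R.y) (ψ.comp R.γ) (ψ'.comp R.γ) (hy ▸ src_ψ P R ψ) (src_ψ P R ψ')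
  refine Finset.sum_congr rfl fun b' _ => ?_
  exact congrArg _ (congrFun h b')

theorem inv_et (j : Fin X.n) (et : Fin X.n → (Fin m → Fin X.n) → A)
    (het : ∀ k, G.i (X.c k j) = ∑ J, G.s (et k J) * X.mon J) (a : Fin P.r₁) (b : Fin P.r₂) :
    Inv P R (∑ k, ∑ J, R.γ (G.t (et k J)) * LRing.Q₁L P R k a *
      ∑ κ : Fin m → Fin P.r₁, (∏ i, LRing.Q₁L P R (J i) (κ i)) * LRing.μL P R κ b) := by
  have h0 : (∑ k, ∑ J, R.γ (G.t (et k J)) * LRing.Q₁L P R k a *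
      ∑ κ : Fin m → Fin P.r₁, (∏ i, LRing.Q₁L P R (J i) (κ i)) * LRing.μL P R κ b) =
      ∑ a', ∑ b', R.l₁.1 a a' * R.l₂.1 b b' *
        ∑ k, ∑ J, R.γ (G.t (et k J)) * q₁ P R.y R.γ k a' * q₂ P R.y R.γ J b' := by
    rw [quad]
    simp only [Q₂L_eq]
    simp only [Q₁L_eq]
  refine inv_congr P R h0 ?_
  intro T _ ψ ψ' hy h₁ h₂
  simp only [map_sum, map_mul, map_q₁, map_q₂, h₁, h₂, hy]
  have h := et_indep P j et het (ψ'.comp R.y) (ψ.comp R.γ) (ψ'.comp R.γ) (hy ▸ src_ψ P R ψ) (src_ψ P R ψ')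
  refine Finset.sum_congr rfl fun a' _ => Finset.sum_congr rfl fun b' _ => ?_
  exact congrArg _ (congrFun (congrFun h a') b')

theorem inv_be (e₀ : Γ) (be : (Fin m → Fin X.n) → (Fin m → Fin X.n) → A)
    (hbe : ∀ {T : Type u} [CommRing T] (h₁ h₂ : Γ →+* T) (hs : h₂.comp G.s = (h₁.comp G.i).comp G.t),
      G.comp h₂ (h₁.comp G.i) hs e₀ = ∑ J, ∑ K, h₁ (G.s (be J K)) * h₁ (X.mon J) * h₂ (X.mon K))
    (b c : Fin P.r₂) :
    Inv P R (∑ J, ∑ L, R.γ (G.t (be J L)) *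
      (∑ κ : Fin m → Fin P.r₁, (∏ i, LRing.Q₁L P R (J i) (κ i)) * LRing.μL P R κ b) *
      ∑ κ : Fin m → Fin P.r₁, (∏ i, LRing.Q₁L P R (L i) (κ i)) * LRing.μL P R κ c) := by
  have h0 : (∑ J, ∑ L, R.γ (G.t (be J L)) *
      (∑ κ : Fin m → Fin P.r₁, (∏ i, LRing.Q₁L P R (J i) (κ i)) * LRing.μL P R κ b) *
      ∑ κ : Fin m → Fin P.r₁, (∏ i, LRing.Q₁L P R (L i) (κ i)) * LRing.μL P R κ c) =
      ∑ b', ∑ c', R.l₂.1 b b' * R.l₂.1 c c' *
        ∑ J, ∑ L, R.γ (G.t (be J L)) * q₂ P R.y R.γ J b' * q₂ P R.y R.γ L c' := by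
    rw [quad]
    simp only [Q₂L_eq]
  refine inv_congr P R h0 ?_
  intro T _ ψ ψ' hy h₁ h₂
  simp only [map_sum, map_mul, map_q₂, h₂, hy]
  have h := be_indep P e₀ be hbe (ψ'.comp R.y) (ψ.comp R.γ) (ψ'.comp R.γ) (hy ▸ src_ψ P R ψ) (src_ψ P R ψ')
  refine Finset.sum_congr rfl fun a' _ => Finset.sum_congr rfl fun b' _ => ?_
  exact congrArg _ (congrFun (congrFun h a') b')

/-! ### the action -/

/-- the embedding `D → L` -/
noncomputable def emb : (LRing.frameData P R).D →+* R.L := (LRing.DL P R).subtype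

theorem emb_injective : Function.Injective (emb P R) := Subtype.val_injective

theorem emb_ι : (emb P R).comp (LRing.frameData P R).ι = R.γ.comp G.t := rfl

theorem emb_ι' (a : A) : emb P R ((LRing.frameData P R).ι a) = R.γ (G.t a) := rfl

theorem emb_Q₁ (j : Fin X.n) (a : Fin P.r₁) : emb P R ((LRing.frameData P R).Q₁ j a) = LRing.Q₁L P R j a := rfl

theorem emb_μ (κ : Fin m → Fin P.r₁) (b : Fin P.r₂) : emb P R ((LRing.frameData P R).μ κ b) = LRing.μL P R κ b := rfl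

theorem emb_Q₂ (J : Fin m → Fin X.n) (b : Fin P.r₂) : emb P R ((LRing.frameData P R).Q₂ J b) =
    ∑ κ : Fin m → Fin P.r₁, (∏ i, LRing.Q₁L P R (J i) (κ i)) * LRing.μL P R κ b := by
  rw [FrameData.Q₂, map_sum]
  refine Finset.sum_congr rfl fun κ _ => ?_
  rw [map_mul, map_prod]
  rfl

/-- maps out of the frame ring are determined by the generators -/
theorem hom_ext (F : FrameData G X m) {T : Type u} [CommRing T] (φ φ' : F.D →+* T) (h : φ.comp F.ι = φ'.comp F.ι)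
    (h₁ : ∀ j a, φ (F.Q₁ j a) = φ' (F.Q₁ j a)) (h₂ : ∀ κ b, φ (F.μ κ b) = φ' (F.μ κ b)) : φ = φ' := by
  refine RingHom.eq_of_eqOn_set_dense F.gen ?_
  rintro z ((⟨a, rfl⟩ | ⟨p, rfl⟩) | ⟨p, rfl⟩)
  · exact RingHom.congr_fun h a
  · exact h₁ _ _
  · exact h₂ _ _

/-- the flat base change -/
theorem exists_base_change {A D L Γ : Type u} [CommRing A] [CommRing D] [CommRing L] [CommRing Γ]
    (ι : A →+* D) (j : D →+* L) (hj : Function.Injective j) (s : A →+* Γ) (hs : s.Flat) :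
    ∃ (U : Type u) (_ : CommRing U) (U' : Type u) (_ : CommRing U') (p : D →+* U) (q : Γ →+* U)
      (p' : L →+* U') (q' : Γ →+* U') (w : U →+* U'), q.comp s = p.comp ι ∧ Function.Injective w ∧
        w.comp p = p'.comp j ∧ w.comp q = q' ∧
        ∀ (T : Type u) [CommRing T] (φ : D →+* T) (σ : Γ →+* T), σ.comp s = φ.comp ι →
          ∃ f : U →+* T, f.comp p = φ ∧ f.comp q = σ := by
  algebraize [ι, s, j.comp ι]
  let jA : D →ₐ[A] L := { j with commutes' := fun _ => rfl }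
  refine ⟨D ⊗[A] Γ, inferInstance, L ⊗[A] Γ, inferInstance, Algebra.TensorProduct.includeLeftRingHom,
    (Algebra.TensorProduct.includeRight : Γ →ₐ[A] D ⊗[A] Γ).toRingHom, Algebra.TensorProduct.includeLeftRingHom,
    (Algebra.TensorProduct.includeRight : Γ →ₐ[A] L ⊗[A] Γ).toRingHom,
    (Algebra.TensorProduct.map jA (AlgHom.id A Γ)).toRingHom, ?_, ?_, ?_, ?_, ?_⟩
  · ext a
    change (1 : D) ⊗ₜ[A] (algebraMap A Γ a) = (algebraMap A D a) ⊗ₜ[A] (1 : Γ)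
    rw [Algebra.algebraMap_eq_smul_one, Algebra.algebraMap_eq_smul_one, TensorProduct.smul_tmul]
  · have : Function.Injective (LinearMap.rTensor Γ jA.toLinearMap) :=
      Module.Flat.rTensor_preserves_injective_linearMap _ hj
    exact this
  · ext d
    simp [jA]
  · ext d
    simp
  · intro T _ φ σ h
    let : Algebra A T := (φ.comp ι).toAlgebra
    let φA : D →ₐ[A] T := { φ with commutes' := fun _ => rfl }
    let σA : Γ →ₐ[A] T := { σ with commutes' := fun a => RingHom.congr_fun h a }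
    refine ⟨(Algebra.TensorProduct.lift φA σA (fun _ _ => Commute.all _ _)).toRingHom, ?_, ?_⟩
    · ext d
      simp [φA]
    · ext d
      simp [σA]

/-- **invariance**: an element of the frame ring which does not depend on `γ` is invariant under the groupoid -/
theorem act_eq (hflat : G.s.Flat)
    (act : ∀ {T : Type u} [CommRing T] (σ : Γ →+* T) (φ : (LRing.frameData P R).D →+* T),
      σ.comp G.s = φ.comp (LRing.frameData P R).ι → ((LRing.frameData P R).D →+* T))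
    (act_ι : ∀ {T : Type u} [CommRing T] (σ : Γ →+* T) (φ : (LRing.frameData P R).D →+* T)
      (h : σ.comp G.s = φ.comp (LRing.frameData P R).ι),
      (act σ φ h).comp (LRing.frameData P R).ι = σ.comp G.t)
    (act_Q₁ : ∀ {T : Type u} [CommRing T] (σ : Γ →+* T) (φ : (LRing.frameData P R).D →+* T)
      (h : σ.comp G.s = φ.comp (LRing.frameData P R).ι) (j : Fin X.n) (a : Fin P.r₁),
      act σ φ h ((LRing.frameData P R).Q₁ j a) = ∑ k, σ (G.i (X.c k j)) * φ ((LRing.frameData P R).Q₁ k a))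
    (act_μ : ∀ {T : Type u} [CommRing T] (σ : Γ →+* T) (φ : (LRing.frameData P R).D →+* T)
      (h : σ.comp G.s = φ.comp (LRing.frameData P R).ι) (κ : Fin m → Fin P.r₁) (b : Fin P.r₂),
      act σ φ h ((LRing.frameData P R).μ κ b) = φ ((LRing.frameData P R).μ κ b))
    {T : Type u} [CommRing T] (σ : Γ →+* T) (φ : (LRing.frameData P R).D →+* T)
    (h : σ.comp G.s = φ.comp (LRing.frameData P R).ι) (z : (LRing.frameData P R).D) (hz : Inv P R (emb P R z)) :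
    act σ φ h z = φ z := by
  -- naturality
  have nat : ∀ (T T' : Type u) [CommRing T] [CommRing T'] (f : T →+* T') (σ : Γ →+* T)
      (φ : (LRing.frameData P R).D →+* T) (h : σ.comp G.s = φ.comp (LRing.frameData P R).ι)
      (h' : (f.comp σ).comp G.s = (f.comp φ).comp (LRing.frameData P R).ι),
      f.comp (act σ φ h) = act (f.comp σ) (f.comp φ) h' := by
    intro T T' _ _ f σ φ h h'
    refine hom_ext _ _ _ ?_ ?_ ?_
    · rw [RingHom.comp_assoc, act_ι, act_ι, RingHom.comp_assoc]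
    · intro j a
      rw [RingHom.comp_apply, act_Q₁, act_Q₁, map_sum]
      refine Finset.sum_congr rfl fun k _ => ?_
      rw [map_mul]
      rfl
    · intro κ b
      rw [RingHom.comp_apply, act_μ, act_μ]
      rfl
  -- the case of `L`-points
  have hL : ∀ (T : Type u) [CommRing T] (σ : Γ →+* T) (ψ : R.L →+* T)
      (h : σ.comp G.s = (ψ.comp (emb P R)).comp (LRing.frameData P R).ι),
      act σ (ψ.comp (emb P R)) h z = ψ (emb P R z) := by
    intro T _ σ ψ h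
    have e : σ.comp G.s = (ψ.comp R.γ).comp G.t := by
      rw [h, RingHom.comp_assoc, emb_ι, RingHom.comp_assoc]
    have e' : (G.comp σ (ψ.comp R.γ) e).comp G.s = (ψ.comp R.y).comp x := by
      rw [G.comp_s, src_ψ P R ψ]
    set ψ' := R.lift (ψ.comp R.y) (G.comp σ (ψ.comp R.γ) e) e' (Matrix.GeneralLinearGroup.map ψ R.l₁)
      (Matrix.GeneralLinearGroup.map ψ R.l₂) with hψ'
    have hy : ψ'.comp R.y = ψ.comp R.y := R.lift_y _ _ _ _ _
    have hγ : ψ'.comp R.γ = G.comp σ (ψ.comp R.γ) e := R.lift_γ _ _ _ _ _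
    have h₁ : ∀ i j, ψ' (R.l₁.1 i j) = ψ (R.l₁.1 i j) := fun i j => R.lift_l₁ _ _ _ _ _ _ _
    have h₂ : ∀ i j, ψ' (R.l₂.1 i j) = ψ (R.l₂.1 i j) := fun i j => R.lift_l₂ _ _ _ _ _ _ _
    have key : act σ (ψ.comp (emb P R)) h = ψ'.comp (emb P R) := by
      refine hom_ext _ _ _ ?_ ?_ ?_
      · rw [act_ι, RingHom.comp_assoc, emb_ι, ← RingHom.comp_assoc, hγ, G.comp_t]
      · intro j a
        rw [act_Q₁, RingHom.comp_apply, emb_Q₁, Q₁L_eq]
        simp only [RingHom.comp_apply, emb_Q₁, Q₁L_eq, map_sum, map_mul, map_q₁, h₁, hy, hγ]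
        simp only [← comp_q₁ P (ψ.comp R.y) (ψ.comp R.γ) σ (src_ψ P R ψ) e, Finset.mul_sum]
        rw [Finset.sum_comm]
        refine Finset.sum_congr rfl fun a' _ => Finset.sum_congr rfl fun k _ => ?_
        ring
      · intro κ b
        rw [act_μ, RingHom.comp_apply, RingHom.comp_apply, emb_μ]
        exact (inv_μ P R κ b T ψ' ψ hy h₁ h₂).symm
    rw [key]
    exact hz T ψ' ψ hy h₁ h₂
  obtain ⟨U, _, U', _, p, q, p', q', w, hpq, hw, hwp, hwq, hU⟩ :=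
    exists_base_change (LRing.frameData P R).ι (emb P R) (emb_injective P R) G.s hflat
  obtain ⟨f, hf₁, hf₂⟩ := hU T φ σ h
  subst hf₁
  subst hf₂
  have hpq' : (w.comp q).comp G.s = (w.comp p).comp (LRing.frameData P R).ι := by
    rw [RingHom.comp_assoc, hpq]; rfl
  have h3 : w (act q p hpq z) = w (p z) := by
    have h4 := RingHom.congr_fun (nat U U' w q p hpq hpq') z
    rw [RingHom.comp_apply] at h4
    rw [h4]
    have h5 : ∀ (ρ : (LRing.frameData P R).D →+* U') (hρ : ρ = p'.comp (emb P R))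
        (hh : (w.comp q).comp G.s = ρ.comp (LRing.frameData P R).ι), act (w.comp q) ρ hh z = ρ z := by
      intro ρ hρ hh
      subst hρ
      exact hL U' _ p' hh
    exact h5 (w.comp p) hwp hpq'
  have h6 := hw h3
  have h7 := RingHom.congr_fun (nat U T f q p hpq h) z
  rw [RingHom.comp_apply] at h7
  rw [← h7, h6]
  rfl

end L

/-- **F4**: the invariant functions are invariant -/
theorem stmtFrameInv : StmtFrameInv.{u} := by
  intro 𝕜 A Γ _ _ _ _ G X M K _ x P R hflat F hF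
  obtain ⟨FD, P1, P2, P4, act, act_ι, act_Q₁, act_μ, act_id, act_comp⟩ := F
  dsimp only at hF
  subst hF
  intro T _ σ φ h i
  refine act_eq P R hflat act act_ι act_Q₁ act_μ σ φ h _ ?_
  cases i with
  | one a => exact inv_one P R a
  | mu κ b => exact inv_μ P R κ b
  | al i b =>
    refine inv_congr P R ?_ (inv_al P R (M.a i) (M.al i) (M.hal i) b)
    simp only [theta, map_sum, map_mul, emb_Q₂, emb_ι']
  | be i b c =>
    refine inv_congr P R ?_ (inv_be P R (M.e i) (M.be i) (fun h₁ h₂ hs => M.hbe h₁ h₂ hs i) b c)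
    simp only [theta, map_sum, map_mul, emb_Q₂, emb_ι']
  | et j a b =>
    refine inv_congr P R ?_ (inv_et P R j (fun k J => M.et k j J) (fun k => M.het k j) a b)
    simp only [theta, map_sum, map_mul, emb_Q₂, emb_ι', emb_Q₁]

/-- **F8** -/
theorem stmtThetaInv : StmtThetaInv.{u} := by
  intro Lb A B _ _ _ _ G D K _ x P R hflat F hF
  obtain ⟨FD, P1, P2, P4, act, act_ι, act_Q₁, act_μ, act_id, act_comp⟩ := F
  dsimp only at hF
  subst hF
  intro T _ σ φ h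
  refine ⟨fun a => ?_, fun l b => ?_, fun j a b => ?_⟩
  · exact act_eq P R hflat act act_ι act_Q₁ act_μ σ φ h _ (inv_one P R a)
  · refine act_eq P R hflat act act_ι act_Q₁ act_μ σ φ h _ ?_
    refine inv_congr P R ?_ (inv_al P R (D.x l) (D.tx l) (D.t_x l) b)
    simp only [map_sum, map_mul, emb_Q₂, emb_ι']
    rfl
  · refine act_eq P R hflat act act_ι act_Q₁ act_μ σ φ h _ ?_
    refine inv_congr P R ?_ (inv_et P R j (fun k J => D.ig k j J) (fun k => D.i_g k j) a b)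
    simp only [map_sum, map_mul, emb_Q₂, emb_ι', emb_Q₁]
    rfl

end Groth.Agent.ResProp.EF.K6.FrameInv
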